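import Mathlib.GroupTheory.Sylow
import Mathlib.GroupTheory.Nilpotent
import Mathlib.GroupTheory.PGroup

/-!
# Groups whose non-central centralizers are maximal: the non-normal ones are abelian
-/

set_option autoImplicit false

namespace Cfsg.Agent.Lib.MaxCentralizers67

variable {G : Type*} [Group G]

/-- All centralizers of non-central elements are maximal. -/
def AllMax (G : Type*) [Group G] : Prop :=
  ∀ x : G, x ∉ Subgroup.center G → IsCoatom (Subgroup.centralizer ({x} : Set G))

local notation "C(" x ")" => Subgroup.centralizer ({x} : Set _)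
local notation "π" => QuotientGroup.mk' (Subgroup.center G)

theorem mem_C {x g : G} : g ∈ C(x) ↔ g * x = x * g := Subgroup.mem_centralizer_singleton_iff

theorem self_mem {x : G} : x ∈ C(x) := mem_C.2 rfl

theorem center_le_C (x : G) : Subgroup.center G ≤ C(x) := fun g hg =>
  mem_C.2 (Subgroup.mem_center_iff.1 hg x).symm

theorem C_le_pow (x : G) (n : ℕ) : C(x) ≤ C(x ^ n) := fun _ hg =>
  mem_C.2 (Commute.pow_right (mem_C.1 hg) n).eq

theorem eq_of_le (h : AllMax G) {a b : G} (ha : a ∉ Subgroup.center G) (hb : b ∉ Subgroup.center G)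
    (hle : C(a) ≤ C(b)) : C(a) = C(b) :=
  (((h a ha).le_iff.1 hle).resolve_left (h b hb).1).symm

theorem mk_eq_one {g : G} : π g = 1 ↔ g ∈ Subgroup.center G := QuotientGroup.eq_one_iff g

variable [Finite G]

/-- A power of prime order modulo the centre has the same centralizer. -/
theorem exists_prime_pow (h : AllMax G) {x : G} (hx : x ∉ Subgroup.center G) :
    ∃ (p : ℕ) (y : G), p.Prime ∧ y ∉ Subgroup.center G ∧ y ^ p ∈ Subgroup.center G ∧ C(y) = C(x) ∧
      y ∈ Subgroup.zpowers x := by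
  set n := orderOf (π x)
  have hn : n ≠ 1 := fun h1 => hx (mk_eq_one.1 (orderOf_eq_one_iff.1 h1))
  obtain ⟨p, hp, c, hc⟩ := Nat.exists_prime_and_dvd hn
  have hn0 : 0 < n := orderOf_pos _
  have hc0 : 0 < c := Nat.pos_of_ne_zero fun h0 => by rw [h0, mul_zero] at hc; omega
  have hy : x ^ c ∉ Subgroup.center G := fun hmem => by
    have hd : n ∣ c := orderOf_dvd_of_pow_eq_one (by rw [← map_pow, mk_eq_one]; exact hmem)
    have := Nat.le_of_dvd hc0 hd
    have h2 : 2 * c ≤ p * c := Nat.mul_le_mul_right c hp.two_le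
    omega
  refine ⟨p, x ^ c, hp, hy, ?_, (eq_of_le h hx hy (C_le_pow x c)).symm, Subgroup.npow_mem_zpowers x c⟩
  rw [← pow_mul, mul_comm, ← hc, ← mk_eq_one, map_pow]
  exact pow_orderOf_eq_one _

/-- A coprime element of the centralizer is central in it. -/
theorem coprime_central (h : AllMax G) {x z : G} {p m : ℕ} (hp : p.Prime) (hx : x ∉ Subgroup.center G)
    (hxp : x ^ p ∈ Subgroup.center G) (hz : z ∈ C(x)) (hzm : z ^ m ∈ Subgroup.center G) (hm : ¬ p ∣ m) :
    C(x) ≤ C(z) := by
  have hxm : x ^ m ∉ Subgroup.center G := fun hmem => hx (by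
    rw [← mk_eq_one] at hxp hmem ⊢
    rw [map_pow] at hxp hmem
    rw [← orderOf_eq_one_iff]
    exact Nat.eq_one_of_dvd_coprimes (hp.coprime_iff_not_dvd.2 hm) (orderOf_dvd_of_pow_eq_one hxp)
      (orderOf_dvd_of_pow_eq_one hmem))
  have hc : Commute x z := (mem_C.1 hz).symm
  have hwm : (x * z) ^ m ∉ Subgroup.center G := by
    rw [hc.mul_pow]
    exact fun hmem => hxm ((Subgroup.mul_mem_cancel_right _ hzm).1 hmem)
  have hw : x * z ∉ Subgroup.center G := fun hmem => hwm (pow_mem hmem m)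
  have hle : C(x * z) ≤ C(x) := by
    refine (C_le_pow (x * z) m).trans fun g hg => ?_
    rw [mem_C, hc.mul_pow] at hg
    have hg' : g ∈ C(x ^ m) := by
      rw [mem_C]
      have hcz := Subgroup.mem_center_iff.1 hzm g
      calc g * x ^ m = g * (x ^ m * z ^ m) * (z ^ m)⁻¹ := by group
        _ = x ^ m * (z ^ m * g) * (z ^ m)⁻¹ := by rw [hg]; group
        _ = x ^ m * (g * z ^ m) * (z ^ m)⁻¹ := by rw [hcz]
        _ = x ^ m * g := by group
    rwa [eq_of_le h hx hxm (C_le_pow x m)]
  intro g hg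
  have h1 : g ∈ C(x * z) := (eq_of_le h hw hx hle).symm ▸ hg
  rw [mem_C] at h1 hg ⊢
  calc g * z = x⁻¹ * (x * g) * z := by group
    _ = x⁻¹ * (g * (x * z)) := by rw [← hg]; group
    _ = z * g := by rw [h1]; group

/-- A non-abelian centralizer is a `p`-group modulo the centre. -/
theorem isPGroup_of_nonabelian (h : AllMax G) {x : G} {p : ℕ} (hp : p.Prime) (hx : x ∉ Subgroup.center G)
    (hxp : x ^ p ∈ Subgroup.center G) (hna : ∃ a ∈ C(x), ∃ b ∈ C(x), a * b ≠ b * a) :
    IsPGroup p (C(x).map π) := by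
  have key : ∀ z ∈ C(x), ∀ r : ℕ, r.Prime → r ≠ p → z ^ r ∈ Subgroup.center G → z ∈ Subgroup.center G := by
    intro z hz r hr hne hzr
    by_contra hzc
    have hxz := coprime_central h hp hx hxp hz hzr (fun hd => hne ((Nat.prime_dvd_prime_iff_eq hp hr).1 hd).symm)
    have heq : C(x) = C(z) := eq_of_le h hx hzc hxz
    obtain ⟨a, ha, b, hb, hab⟩ := hna
    obtain ⟨k, m, hm, hn⟩ := Nat.exists_eq_pow_mul_and_not_dvd (orderOf_pos (π a)).ne' p hp.ne_one
    have han : a ^ (p ^ k * m) ∈ Subgroup.center G := by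
      rw [← hn, ← mk_eq_one, map_pow]; exact pow_orderOf_eq_one _
    -- both parts of `a` are central in the centralizer
    have h1 : b ∈ C(a ^ p ^ k) := coprime_central h hp hx hxp (pow_mem ha _) (by rwa [← pow_mul]) hm hb
    have h2 : b ∈ C(a ^ m) := coprime_central h hr hzc hzr (heq ▸ pow_mem ha m)
      (by rw [← pow_mul, mul_comm]; exact han)
      (fun hd => hne ((Nat.prime_dvd_prime_iff_eq hr hp).1 (hr.dvd_of_dvd_pow hd))) (heq ▸ hb)
    have hbez := Nat.gcd_eq_gcd_ab (p ^ k) m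
    rw [(Nat.Coprime.pow_left k (hp.coprime_iff_not_dvd.2 hm)).gcd_eq_one, Nat.cast_one] at hbez
    have h3 : a = (a ^ p ^ k) ^ Nat.gcdA (p ^ k) m * (a ^ m) ^ Nat.gcdB (p ^ k) m := by
      rw [← zpow_natCast, ← zpow_natCast a m, ← zpow_mul, ← zpow_mul, ← zpow_add, ← hbez, zpow_one]
    refine hab ?_
    rw [h3]
    exact ((Commute.zpow_left (mem_C.1 h1 : Commute b _).symm _).mul_left
      (Commute.zpow_left (mem_C.1 h2 : Commute b _).symm _)).eq
  rintro ⟨_, z, hz, rfl⟩
  obtain ⟨k, m, hm, hn⟩ := Nat.exists_eq_pow_mul_and_not_dvd (orderOf_pos (π z)).ne' p hp.ne_one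
  refine ⟨k, Subtype.ext ?_⟩
  change (π z) ^ p ^ k = 1
  rcases eq_or_ne m 1 with rfl | hm1
  · rw [mul_one] at hn; rw [← hn]; exact pow_orderOf_eq_one _
  · obtain ⟨r, hr, c, rfl⟩ := Nat.exists_prime_and_dvd hm1
    have hne : r ≠ p := fun h => hm (h ▸ dvd_mul_right r c)
    have hmem := key (z ^ (p ^ k * c)) (pow_mem hz _) r hr hne (by
      rw [← pow_mul, ← mk_eq_one, map_pow, show p ^ k * c * r = p ^ k * (r * c) by ring, ← hn]
      exact pow_orderOf_eq_one _)
    rw [← mk_eq_one, map_pow] at hmem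
    have hd := orderOf_dvd_of_pow_eq_one hmem
    rw [hn] at hd
    have hc0 : 0 < p ^ k * c := Nat.pos_of_ne_zero fun h0 => by
      have := orderOf_pos (π z)
      rw [hn, show p ^ k * (r * c) = p ^ k * c * r by ring, h0, zero_mul] at this
      omega
    have := Nat.le_of_dvd hc0 hd
    have : p ^ k * c * 2 ≤ p ^ k * c * r := Nat.mul_le_mul_left _ hr.two_le
    have e : p ^ k * (r * c) = p ^ k * c * r := by ring
    omega

theorem comap_map_of_center_le {H : Subgroup G} (hH : Subgroup.center G ≤ H) : (H.map π).comap π = H := by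
  rw [Subgroup.comap_map_eq, QuotientGroup.ker_mk', sup_eq_left.2 hH]

/-- A non-normal maximal subgroup that is a `p`-group modulo the centre is Sylow there, so it contains
every normal `p`-subgroup. -/
theorem le_of_normal {p : ℕ} [Fact p.Prime] {M N : Subgroup G} (hM : IsCoatom M)
    (hMZ : Subgroup.center G ≤ M) (hMn : ¬ M.Normal) (hMp : IsPGroup p (M.map π)) [N.Normal]
    (hNp : IsPGroup p (N.map π)) : N ≤ M := by
  by_contra hle
  have hsup : M ⊔ N = ⊤ := hM.2 _ (left_lt_sup.2 hle)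
  have hNn : (N.map π).Normal := Subgroup.Normal.map inferInstance _ (QuotientGroup.mk'_surjective _)
  have hp := IsPGroup.to_sup_of_normal_right hMp hNp
  rw [← Subgroup.map_sup, hsup, Subgroup.map_top_of_surjective _ (QuotientGroup.mk'_surjective _)] at hp
  have : Group.IsNilpotent (G ⧸ Subgroup.center G) := (hp.of_equiv Subgroup.topEquiv).isNilpotent
  have : Group.IsNilpotent G := Subgroup.isNilpotent_of_ker_le_center π (by rw [QuotientGroup.ker_mk'])
  exact hMn (Subgroup.NormalizerCondition.normal_of_coatom M Group.normalizerCondition_of_isNilpotent hM)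

/-- A non-normal centralizer of a non-central element is abelian. -/
theorem comm_of_not_normal (h : AllMax G) {x : G} (hx : x ∉ Subgroup.center G)
    (hn : ¬ (C(x)).Normal) : ∀ a ∈ C(x), ∀ b ∈ C(x), a * b = b * a := by
  by_contra hna
  push Not at hna
  obtain ⟨p, y, hp, hy, hyp, hyx, -⟩ := exists_prime_pow h hx
  rw [← hyx] at hna hn
  clear! x
  have := Fact.mk hp
  set M := C(y) with hMdef
  have hMp : IsPGroup p (M.map π) := isPGroup_of_nonabelian h hp hy hyp hna
  -- all centralizers of non-central elements of `M` look like `M`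
  have hT : ∀ w ∈ M, w ∉ Subgroup.center G → IsPGroup p (C(w).map π) ∧ ¬ (C(w)).Normal := by
    intro w hw hwc
    have hyw : y ∈ C(w) := mem_C.2 (mem_C.1 hw).symm
    have hnab : ∃ a ∈ C(w), ∃ b ∈ C(w), a * b ≠ b * a := by
      by_contra hab
      push Not at hab
      have hle : C(w) ≤ C(y) := fun g hg => mem_C.2 (hab g hg y hyw)
      have he := eq_of_le h hwc hy hle
      obtain ⟨a, ha, b, hb, hne⟩ := hna
      exact hne (hab a (he.symm ▸ ha) b (he.symm ▸ hb))
    obtain ⟨r, v, hr, hv, hvr, hvw, -⟩ := exists_prime_pow h hwc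
    rw [← hvw] at hnab hyw ⊢
    have hTr : IsPGroup r (C(v).map π) := isPGroup_of_nonabelian h hr hv hvr hnab
    have hrp : r = p := by
      obtain ⟨k, hk⟩ := hTr ⟨π y, Subgroup.mem_map_of_mem _ hyw⟩
      have hk' : π y ^ r ^ k = 1 := congrArg Subtype.val hk
      by_contra hne
      rw [← mk_eq_one, map_pow] at hyp
      refine hy (mk_eq_one.1 (orderOf_eq_one_iff.1 (Nat.eq_one_of_dvd_coprimes ?_
        (orderOf_dvd_of_pow_eq_one hk') (orderOf_dvd_of_pow_eq_one hyp))))
      exact Nat.Coprime.pow_left k ((Nat.coprime_primes hr hp).2 hne)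
    subst hrp
    refine ⟨hTr, fun hTn => hn ?_⟩
    have hle := le_of_normal (h y hy) (center_le_C y) hn hMp (N := C(v)) hTr
    have he := eq_of_le h hv hy hle
    rw [hMdef, ← he]; exact hTn
  -- commutation modulo the centre is commutation
  have hd : ∀ w ∈ M, ∀ g : G, π g * π w = π w * π g → g * w = w * g := by
    intro w hw g hg
    by_cases hwc : w ∈ Subgroup.center G
    · exact (Subgroup.mem_center_iff.1 hwc g)
    set E := (Subgroup.centralizer ({π w} : Set (G ⧸ Subgroup.center G))).comap π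
    have hTE : C(w) ≤ E := fun a ha => by
      change π a ∈ Subgroup.centralizer {π w}
      rw [Subgroup.mem_centralizer_singleton_iff, ← map_mul, ← map_mul, mem_C.1 ha]
    have hgE : g ∈ E := Subgroup.mem_centralizer_singleton_iff.2 hg
    rcases (h w hwc).le_iff.1 hTE with hE | hE
    · refine absurd (Subgroup.Normal.mk fun t ht a => ?_) (hT w hw hwc).2
      have ha : a⁻¹ ∈ E := hE ▸ Subgroup.mem_top _
      have hc : w⁻¹ * (a⁻¹ * w * a) ∈ Subgroup.center G := by
        rw [← mk_eq_one, map_mul, map_inv, map_mul, map_mul,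
          Subgroup.mem_centralizer_singleton_iff.1 (ha : π a⁻¹ ∈ _), mul_assoc, ← map_mul π a⁻¹,
          inv_mul_cancel, map_one, mul_one, inv_mul_cancel]
      have htc : Commute t (a⁻¹ * w * a) := by
        have h1 : Commute t (w * (w⁻¹ * (a⁻¹ * w * a))) :=
          Commute.mul_right (mem_C.1 ht) (Subgroup.mem_center_iff.1 hc t)
        rwa [mul_inv_cancel_left] at h1
      rw [mem_C]
      calc a * t * a⁻¹ * w = a * (t * (a⁻¹ * w * a)) * a⁻¹ := by group
        _ = a * ((a⁻¹ * w * a) * t) * a⁻¹ := by rw [htc.eq]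
        _ = w * (a * t * a⁻¹) := by group
    · rw [hE] at hgE
      exact mem_C.1 hgE
  -- an element of the second centre of `M` modulo the centre
  set Mb := M.map π
  have : Group.IsNilpotent Mb := hMp.isNilpotent
  have hZne : Subgroup.center Mb ≠ ⊤ := by
    intro hZ
    obtain ⟨a, ha, b, hb, hne⟩ := hna
    refine hne (hd b hb a ?_)
    exact congrArg Subtype.val (Subgroup.mem_center_iff.1
      (hZ ▸ Subgroup.mem_top (⟨π b, Subgroup.mem_map_of_mem _ hb⟩ : Mb)) ⟨π a, Subgroup.mem_map_of_mem _ ha⟩)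
  have : Nontrivial (Mb ⧸ Subgroup.center Mb) := QuotientGroup.nontrivial_iff.2 hZne
  obtain ⟨⟨ub, hub⟩, hub1⟩ := Subgroup.ne_bot_iff_exists_ne_one.1
    (hMp.to_quotient (Subgroup.center Mb)).bot_lt_center.ne'
  obtain ⟨u', rfl⟩ := QuotientGroup.mk'_surjective _ ub
  have hu'Z : u' ∉ Subgroup.center Mb := fun hmem =>
    hub1 (Subtype.ext ((QuotientGroup.eq_one_iff u').2 hmem))
  obtain ⟨_, u, huM, rfl⟩ := u'
  -- commutators with `u` are central in `M`
  have hcm : ∀ m ∈ M, ∀ g ∈ M, g * (u⁻¹ * (m⁻¹ * u * m)) = (u⁻¹ * (m⁻¹ * u * m)) * g := by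
    intro m hm g hg
    have hcM : u⁻¹ * (m⁻¹ * u * m) ∈ M := mul_mem (inv_mem huM) (mul_mem (mul_mem (inv_mem hm) huM) hm)
    refine hd _ hcM g ?_
    set u'' : Mb := ⟨π u, Subgroup.mem_map_of_mem _ huM⟩
    set m'' : Mb := ⟨π m, Subgroup.mem_map_of_mem _ hm⟩
    have h1 : u''⁻¹ * (m''⁻¹ * u'' * m'') ∈ Subgroup.center Mb := by
      rw [← QuotientGroup.eq_one_iff, QuotientGroup.mk_mul, QuotientGroup.mk_mul, QuotientGroup.mk_mul,
        QuotientGroup.mk_inv, QuotientGroup.mk_inv, mul_assoc ((m'' : Mb ⧸ Subgroup.center Mb))⁻¹,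
        (show (u'' : Mb ⧸ Subgroup.center Mb) * m'' = m'' * u'' from
          (Subgroup.mem_center_iff.1 hub (m'' : Mb ⧸ Subgroup.center Mb)).symm)]
      group
    exact congrArg Subtype.val (Subgroup.mem_center_iff.1 h1 ⟨π g, Subgroup.mem_map_of_mem _ hg⟩)
  have huc : u ∉ Subgroup.center G := fun hmem => hu'Z (Subgroup.mem_center_iff.2 fun g => Subtype.ext (by
    change (g : G ⧸ Subgroup.center G) * π u = π u * (g : G ⧸ Subgroup.center G)
    rw [mk_eq_one.2 hmem, one_mul, mul_one]))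
  obtain ⟨w, hw, hwu⟩ : ∃ w ∈ M, w * u ≠ u * w := by
    by_contra hall
    push Not at hall
    refine hu'Z (Subgroup.mem_center_iff.2 ?_)
    rintro ⟨_, g, hg, rfl⟩
    exact Subtype.ext (show π g * π u = π u * π g by rw [← map_mul, ← map_mul, hall g hg])
  have hTp := (hT u huM huc).1
  set T := C(u) with hTdef
  set D := M ⊓ T with hDdef
  have hMD : M ≤ Subgroup.normalizer (D : Set G) := by
    have key : ∀ m ∈ M, ∀ d ∈ D, m * d * m⁻¹ ∈ D := by
      intro m hm d hd'
      obtain ⟨hdM, hdT⟩ := Subgroup.mem_inf.1 hd'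
      refine Subgroup.mem_inf.2 ⟨mul_mem (mul_mem hm hdM) (inv_mem hm), mem_C.2 ?_⟩
      have hdc : Commute d (m⁻¹ * u * m) := by
        have h1 : Commute d (u * (u⁻¹ * (m⁻¹ * u * m))) :=
          Commute.mul_right (mem_C.1 hdT) (hcm m hm d hdM)
        rwa [mul_inv_cancel_left] at h1
      calc m * d * m⁻¹ * u = m * (d * (m⁻¹ * u * m)) * m⁻¹ := by group
        _ = m * ((m⁻¹ * u * m) * d) * m⁻¹ := by rw [hdc.eq]
        _ = u * (m * d * m⁻¹) := by group
    intro m hm
    refine Subgroup.mem_normalizer_iff.2 fun d => ⟨key m hm d, fun hd' => ?_⟩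
    simpa [mul_assoc] using key m⁻¹ (inv_mem hm) _ hd'
  have hTD : D.subgroupOf T < ⊤ := by
    refine lt_top_iff_ne_top.2 fun htop => ?_
    rw [Subgroup.subgroupOf_eq_top] at htop
    have he := eq_of_le h huc hy ((htop.trans inf_le_left : T ≤ M))
    exact hwu (mem_C.1 (he.symm ▸ hw))
  have : Group.IsNilpotent T := by
    have : Group.IsNilpotent (T.map π) := hTp.isNilpotent
    refine Subgroup.isNilpotent_of_ker_le_center (MonoidHom.subgroupMap π T) fun z hz => Subgroup.mem_center_iff.2 fun g => ?_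
    have : (z : G) ∈ Subgroup.center G := mk_eq_one.1 (congrArg Subtype.val hz)
    exact Subtype.ext (Subgroup.mem_center_iff.1 this g)
  obtain ⟨t, htN, htD⟩ := SetLike.exists_of_lt (Group.normalizerCondition_of_isNilpotent _ hTD)
  have htD' : (t : G) ∈ Subgroup.normalizer (D : Set G) := by
    refine Subgroup.mem_normalizer_iff.2 fun d => ?_
    have := Subgroup.mem_normalizer_iff.1 htN
    constructor
    · intro hd'
      exact (this ⟨d, (Subgroup.mem_inf.1 hd').2⟩).1 hd'
    · intro hd'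
      have hdT : d ∈ T := by
        have h1 := mul_mem (mul_mem (inv_mem t.2) (Subgroup.mem_inf.1 hd').2) t.2
        simpa [mul_assoc] using h1
      exact (this ⟨d, hdT⟩).2 hd'
  have htM : (t : G) ∉ M := fun hm => htD (Subgroup.mem_inf.2 ⟨hm, t.2⟩)
  have hDn : D.Normal := by
    rw [← Subgroup.normalizer_eq_top_iff]
    exact ((h y hy).le_iff.1 hMD).resolve_right fun he => htM (by rw [he] at htD'; exact htD')
  have hwc : w ∉ Subgroup.center G := fun hmem => hwu (Subgroup.mem_center_iff.1 hmem u).symm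
  obtain ⟨hSp, hSn⟩ := hT w hw hwc
  have hDS := le_of_normal (h w hwc) (center_le_C w) hSn hSp (N := D)
    (hMp.to_le (Subgroup.map_mono inf_le_left))
  exact hwu (mem_C.1 (hDS (Subgroup.mem_inf.2 ⟨huM, self_mem⟩))).symm

end Cfsg.Agent.Lib.MaxCentralizers67
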