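import Cfsg.Prelude.Def_Transfer
import Cfsg.Agent.Lib.MaxCentralizers67.Nilpotent
import Cfsg.Agent.Lib.Induced.FrobeniusKernel
import Cfsg.Agent.Lib.Frobenius.Basic

/-!
# Groups whose non-central centralizers are maximal
-/

set_option autoImplicit false

namespace Cfsg.Agent.Lib.MaxCentralizers67

open scoped Pointwise
open Cfsg Cfsg.Agent.Lib

variable {G : Type*} [Group G] [Finite G]

local notation "C(" x ")" => Subgroup.centralizer ({x} : Set _)
local notation "π" => QuotientGroup.mk' (Subgroup.center G)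

omit [Finite G] in
theorem mul_pow_central {x g c : G} (hc : c ∈ Subgroup.center G) (hx : x * g = g * x * c) (n : ℕ) :
    x ^ n * g = g * x ^ n * c ^ n ∧ x * g ^ n = g ^ n * x * c ^ n := by
  have hcc : ∀ a : G, a * c = c * a := fun a => Subgroup.mem_center_iff.1 hc a
  have hcn : ∀ (k : ℕ) (a : G), a * c ^ k = c ^ k * a := fun k a =>
    ((show Commute a c from hcc a).pow_right k).eq
  induction n with
  | zero => simp
  | succ n ih =>
    constructor
    · rw [pow_succ x, mul_assoc, hx, ← mul_assoc, ← mul_assoc, ih.1, mul_assoc _ (c ^ n) x, ← hcn n x,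
        ← mul_assoc, mul_assoc _ (c ^ n) c, ← pow_succ, mul_assoc g (x ^ n) x]
    · rw [pow_succ g, ← mul_assoc, ih.2, mul_assoc _ (c ^ n) g, ← hcn n g, ← mul_assoc,
        mul_assoc (g ^ n) x g, hx, ← mul_assoc, ← mul_assoc, mul_assoc _ c, ← pow_succ']

/-- A normal maximal subgroup has prime index and contains the derived subgroup. -/
theorem normal_coatom {M : Subgroup G} [M.Normal] (hM : IsCoatom M) :
    M.index.Prime ∧ commutator G ≤ M := by
  obtain ⟨g, hg⟩ : ∃ g, g ∉ M := by
    by_contra h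
    push Not at h
    exact hM.1 (eq_top_iff.2 fun g _ => h g)
  have hQ : Nat.card (G ⧸ M) ≠ 1 := fun h => hM.1 (Subgroup.index_eq_one.1 h)
  obtain ⟨q, hq, hqd⟩ := Nat.exists_prime_and_dvd hQ
  have := Fact.mk hq
  obtain ⟨z, hz⟩ := exists_prime_orderOf_dvd_card' (G := G ⧸ M) q hqd
  have hZ : Subgroup.zpowers z = ⊤ := by
    have hle : M ≤ (Subgroup.zpowers z).comap (QuotientGroup.mk' M) := fun m hm => by
      change (m : G ⧸ M) ∈ Subgroup.zpowers z
      rw [(QuotientGroup.eq_one_iff m).2 hm]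
      exact one_mem _
    rcases hM.le_iff.1 hle with h | h
    · exact Subgroup.comap_injective (QuotientGroup.mk'_surjective M) (h.trans (Subgroup.comap_top _).symm)
    · exfalso
      obtain ⟨y, rfl⟩ := QuotientGroup.mk'_surjective M z
      have : y ∈ M := by rw [← h]; exact Subgroup.mem_zpowers _
      rw [QuotientGroup.mk'_apply, (QuotientGroup.eq_one_iff y).2 this, orderOf_one] at hz
      exact hq.one_lt.ne hz
  refine ⟨?_, Subgroup.Normal.commutator_le_of_self_sup_commutative_eq_top (H := Subgroup.zpowers g)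
    (hM.2 _ (left_lt_sup.2 fun h => hg (h (Subgroup.mem_zpowers g)))) inferInstance⟩
  rw [Subgroup.index, ← Subgroup.card_top, ← hZ, Nat.card_zpowers, hz]
  exact hq

/-- All centralizers normal: the central quotient is elementary abelian. -/
theorem of_all_normal (h : AllMax G) (hne : ∃ x : G, x ∉ Subgroup.center G)
    (hall : ∀ x : G, x ∉ Subgroup.center G → (C(x)).Normal) :
    ∃ p : ℕ, p.Prime ∧ IsElementaryAbelian p (⊤ : Subgroup (G ⧸ Subgroup.center G)) := by
  have hG' : ∀ g ∈ commutator G, g ∈ Subgroup.center G := fun g hg => Subgroup.mem_center_iff.2 fun x => by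
    by_cases hx : x ∈ Subgroup.center G
    · exact (Subgroup.mem_center_iff.1 hx g).symm
    · have := hall x hx
      exact (mem_C.1 ((normal_coatom (h x hx)).2 hg)).symm
  have hcomm : ∀ a b : G ⧸ Subgroup.center G, a * b = b * a := by
    intro a b
    obtain ⟨a, rfl⟩ := QuotientGroup.mk'_surjective _ a
    obtain ⟨b, rfl⟩ := QuotientGroup.mk'_surjective _ b
    rw [← map_mul, ← map_mul, QuotientGroup.mk'_apply, QuotientGroup.mk'_apply, QuotientGroup.eq,
      show (a * b)⁻¹ * (b * a) = b⁻¹ * a⁻¹ * b⁻¹⁻¹ * a⁻¹⁻¹ by group]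
    exact hG' _ (Subgroup.commutator_mem_commutator (H₁ := ⊤) (H₂ := ⊤) trivial trivial)
  have hord : ∀ x : G, x ∉ Subgroup.center G →
      ∃ p : ℕ, p.Prime ∧ orderOf (π x) = p := by
    intro x hx
    have := hall x hx
    have hp := (normal_coatom (h x hx)).1
    have := Fact.mk hp
    refine ⟨_, hp, orderOf_eq_prime ?_ (fun h1 => hx (mk_eq_one.1 h1))⟩
    rw [← map_pow, mk_eq_one, Subgroup.mem_center_iff]
    intro g
    obtain ⟨c, hc, hxg⟩ : ∃ c ∈ Subgroup.center G, x * g = g * x * c :=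
      ⟨(g * x)⁻¹ * (x * g), (QuotientGroup.eq.1 (hcomm (g : G ⧸ Subgroup.center G) x)), by group⟩
    obtain ⟨h1, h2⟩ := mul_pow_central hc hxg (C(x)).index
    rw [← mem_C.1 ((C(x)).pow_index_mem g)] at h2
    rw [h1, mul_eq_left.1 h2.symm, mul_one]
  obtain ⟨x, hx⟩ := hne
  obtain ⟨p, hp, hxp⟩ := hord x hx
  refine ⟨p, hp, ⟨⟨fun a b => Subtype.ext (hcomm a b)⟩⟩, fun b _ => ?_⟩
  obtain ⟨y, rfl⟩ := QuotientGroup.mk'_surjective _ b
  by_cases hy : y ∈ Subgroup.center G
  · rw [mk_eq_one.2 hy, one_pow]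
  obtain ⟨q, hq, hyq⟩ := hord y hy
  suffices hqp : q = p by rw [← hqp, ← hyq]; exact pow_orderOf_eq_one _
  by_contra hqp
  have ho : orderOf (π (x * y)) = p * q := by
    rw [map_mul, (show Commute (π x) (π y) from hcomm _ _).orderOf_mul_eq_mul_orderOf_of_coprime
      (by rw [hxp, hyq]; exact (Nat.coprime_primes hp hq).2 (Ne.symm hqp)), hxp, hyq]
  have hxy : x * y ∉ Subgroup.center G := fun hm => by
    rw [mk_eq_one.2 hm, orderOf_one] at ho
    have := Nat.mul_le_mul hp.two_le hq.two_le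
    omega
  obtain ⟨r, hr, hr'⟩ := hord _ hxy
  rw [ho] at hr'
  exact Nat.not_prime_mul hp.ne_one hq.ne_one (hr'.symm ▸ hr)

/-- Some centralizer not normal: the central quotient is minimal non-abelian of order `p ^ a * q`. -/
theorem of_not_normal (h : AllMax G) {x : G} (hx : x ∉ Subgroup.center G) (hn : ¬ (C(x)).Normal) :
    ¬ IsMulCommutative (G ⧸ Subgroup.center G) ∧
      (∀ H : Subgroup (G ⧸ Subgroup.center G), H ≠ ⊤ → IsMulCommutative ↥H) ∧
      ∃ p q a : ℕ, p.Prime ∧ q.Prime ∧ p ≠ q ∧ Nat.card (G ⧸ Subgroup.center G) = p ^ a * q ∧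
        ∀ P : Subgroup (G ⧸ Subgroup.center G), Nat.card ↥P = p ^ a → P.Normal := by
  set M := C(x) with hMdef
  have hab := comm_of_not_normal h hx hn
  have hMZ : Subgroup.center G ≤ M := center_le_C x
  have hMc : IsCoatom M := h x hx
  set Mb := M.map π with hMbdef
  have hmem : ∀ g : G, π g ∈ Mb ↔ g ∈ M := fun g => by
    rw [← Subgroup.mem_comap, comap_map_of_center_le hMZ]
  have hMb_top : Mb ≠ ⊤ := fun he => hMc.1 (eq_top_iff.2 fun g _ => (hmem g).1 (he ▸ Subgroup.mem_top _))
  have hMb_coatom : IsCoatom Mb := by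
    refine ⟨hMb_top, fun H hH => ?_⟩
    rcases hMc.le_iff.1 ((comap_map_of_center_le hMZ).symm.le.trans (Subgroup.comap_mono hH.le)) with he | he
    · exact Subgroup.comap_injective (QuotientGroup.mk'_surjective _) (he.trans (Subgroup.comap_top _).symm)
    · refine absurd ?_ hH.ne'
      refine Subgroup.comap_injective (QuotientGroup.mk'_surjective _) ?_
      rw [he, comap_map_of_center_le hMZ]
  have hMbn : ¬ Mb.Normal := fun hN => hn (by rw [← comap_map_of_center_le hMZ]; exact hN.comap _)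
  have hTI : ∀ g : G, g ∉ M → ∀ w ∈ M, g * w * g⁻¹ ∈ M → w ∈ Subgroup.center G := by
    intro g hg w hw hgw
    by_contra hwc
    have heq : M = C(w) := eq_of_le h hx hwc fun m hm => mem_C.2 (hab m hm w hw)
    have hle : ∀ m ∈ M, g⁻¹ * m * g ∈ M := fun m hm => by
      rw [heq, mem_C]
      have h2 := congrArg (fun t => g⁻¹ * t * g) (hab m hm _ hgw)
      simpa [mul_assoc] using h2
    have hmap : M.map (MulAut.conj g⁻¹).toMonoidHom = M := Subgroup.eq_of_le_of_card_ge
      (by rintro _ ⟨m, hm, rfl⟩; simpa using hle m hm)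
      (le_of_eq (Nat.card_congr (M.equivMapOfInjective _ (MulAut.conj g⁻¹).injective).toEquiv))
    have hgN : g⁻¹ ∈ Subgroup.normalizer (M : Set G) := Subgroup.mem_normalizer_iff_map_conj_eq.2 hmap
    rcases hMc.le_iff.1 Subgroup.le_normalizer with he | he
    · exact hn (Subgroup.normalizer_eq_top_iff.1 he)
    · rw [he] at hgN
      exact hg (inv_mem_iff.1 hgN)
  have hFC : IsFrobeniusComplement Mb := by
    refine ⟨fun he => hx (mk_eq_one.1 ?_), hMb_top, fun gb hgb => ?_⟩
    · rw [← Subgroup.mem_bot, ← he]; exact Subgroup.mem_map_of_mem _ self_mem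
    · obtain ⟨g, rfl⟩ := QuotientGroup.mk'_surjective _ gb
      rw [Subgroup.eq_bot_iff_forall]
      rintro yb ⟨hy1, hy2⟩
      obtain ⟨w, hw, rfl⟩ := hy1
      change π w ∈ MulAut.conj (π g) • Mb at hy2
      rw [Subgroup.mem_pointwise_smul_iff_inv_smul_mem] at hy2
      have hy2' : g⁻¹ * w * g⁻¹⁻¹ ∈ M := (hmem _).1 (by simpa using hy2)
      exact mk_eq_one.2 (hTI g⁻¹ (fun hm => hgb ((hmem g).2 (inv_mem_iff.1 hm))) w hw hy2')
  obtain ⟨Kb, hKn, hKset, hKc⟩ := Induced.FrobeniusKernel.exists_frobeniusKernel_subgroup hFC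
  set K := Kb.comap π with hKdef
  have hKt : Kb ≠ ⊤ := fun he => hFC.1 (eq_bot_iff.2 fun b hb =>
    Subgroup.disjoint_def.1 hKc.disjoint (he ▸ Subgroup.mem_top b) hb)
  have hKb1 : Kb ≠ ⊥ := fun he => hMb_top (by
    have := hKc.sup_eq_top
    rwa [he, bot_sup_eq] at this)
  have hCKeq : ∀ k ∈ K, k ∉ Subgroup.center G → C(k) = K := by
    intro k hk hkc
    have hCK : C(k) ≤ K := by
      intro g hg
      by_contra hgK
      have hgK' : π g ∉ Cfsg.frobeniusKernel Mb := fun hm => hgK (hKset.symm ▸ hm : π g ∈ (Kb : Set _))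
      simp only [Cfsg.frobeniusKernel, Set.mem_setOf_eq, not_or, not_forall, not_not] at hgK'
      obtain ⟨hg1, a, ha⟩ := hgK'
      rw [Frobenius.mem_conj_smul] at ha
      have hm1 : a⁻¹ * π g * a ≠ 1 := fun he => hg1 (by
        have h2 := congrArg (fun t => a * t * a⁻¹) he
        simpa [mul_assoc] using h2)
      have hkM : a⁻¹ * π k * a ∈ Mb := by
        refine Frobenius.mem_of_commute hFC ha hm1 ?_
        have h2 : π g * π k = π k * π g := by rw [← map_mul, ← map_mul, mem_C.1 hg]
        have h3 := congrArg (fun t => a⁻¹ * t * a) h2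
        simpa [mul_assoc] using h3
      have hk1 : a⁻¹ * π k * a = 1 := Subgroup.disjoint_def.1 hKc.disjoint
        (by simpa using hKn.conj_mem (π k) hk a⁻¹) hkM
      refine hkc (mk_eq_one.1 ?_)
      have h2 := congrArg (fun t => a * t * a⁻¹) hk1
      simpa [mul_assoc] using h2
    have hne : K ≠ ⊤ := fun he => hKt (Subgroup.comap_injective (QuotientGroup.mk'_surjective _)
      (he.trans (Subgroup.comap_top _).symm))
    exact (((h k hkc).le_iff.1 hCK).resolve_left hne).symm
  have hKab : ∀ k ∈ K, ∀ k' ∈ K, k * k' = k' * k := by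
    intro k hk k' hk'
    by_cases hkc : k ∈ Subgroup.center G
    · exact (Subgroup.mem_center_iff.1 hkc k').symm
    rw [← hCKeq k hk hkc] at hk'
    exact (mem_C.1 hk').symm
  have hKbab : IsMulCommutative Kb := ⟨⟨fun ⟨a, ha⟩ ⟨b, hb⟩ => by
    obtain ⟨a, rfl⟩ := QuotientGroup.mk'_surjective _ a
    obtain ⟨b, rfl⟩ := QuotientGroup.mk'_surjective _ b
    exact Subtype.ext (show π a * π b = π b * π a by rw [← map_mul, ← map_mul, hKab a ha b hb])⟩⟩
  have hKco : IsCoatom Kb := by
    obtain ⟨k, hk, hkc⟩ : ∃ k ∈ K, k ∉ Subgroup.center G := by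
      obtain ⟨⟨kb, hkb⟩, hk1⟩ := Subgroup.ne_bot_iff_exists_ne_one.1 hKb1
      obtain ⟨k, rfl⟩ := QuotientGroup.mk'_surjective _ kb
      exact ⟨k, hkb, fun hm => hk1 (Subtype.ext (mk_eq_one.2 hm))⟩
    refine ⟨hKt, fun H hH => ?_⟩
    have hle : C(k) ≤ H.comap π := by
      rw [hCKeq k hk hkc]
      exact Subgroup.comap_mono hH.le
    rcases (h k hkc).le_iff.1 hle with he | he
    · exact Subgroup.comap_injective (QuotientGroup.mk'_surjective _) (he.trans (Subgroup.comap_top _).symm)
    · rw [hCKeq k hk hkc] at he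
      exact absurd (Subgroup.comap_injective (QuotientGroup.mk'_surjective _) he) hH.ne'
  have := hKn
  have hq := (normal_coatom hKco).1
  set q := Kb.index
  have hMq : Nat.card Mb = q := (hKc.symm.index_eq_card).symm
  have hMbi : Mb.index = Nat.card Kb := hKc.index_eq_card
  -- minimality
  have hmin : ∀ N : Subgroup (G ⧸ Subgroup.center G), N.Normal → N ≤ Kb → N = ⊥ ∨ N = Kb := by
    intro N hN hNK
    rcases hMb_coatom.le_iff.1 (le_sup_right : Mb ≤ N ⊔ Mb) with he | he
    · right
      refine le_antisymm hNK fun k hk => ?_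
      have hk' : k ∈ ((N : Set (G ⧸ Subgroup.center G)) * (Mb : Set _)) := by
        rw [← Subgroup.normal_mul, he]
        exact Subgroup.mem_top k
      obtain ⟨n, hn, m, hm, rfl⟩ := hk'
      have := Subgroup.disjoint_def.1 hKc.disjoint ((Subgroup.mul_mem_cancel_left Kb (hNK hn)).1 hk) hm
      simpa [this] using hn
    · left
      rw [eq_bot_iff]
      intro n hn
      exact Subgroup.disjoint_def.1 hKc.disjoint (hNK hn) (he ▸ Subgroup.mem_sup_left hn)
  obtain ⟨p, hp, hpd⟩ := Nat.exists_prime_and_dvd (fun he : Nat.card Kb = 1 => hKb1 (Subgroup.card_eq_one.1 he))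
  have := Fact.mk hp
  obtain ⟨S⟩ : Nonempty (Sylow p Kb) := inferInstance
  have hSK : (S : Subgroup Kb).map Kb.subtype = Kb := by
    have : ((S : Subgroup Kb)).Normal := Subgroup.normal_of_isMulCommutative _
    have := Sylow.characteristic_of_normal S this
    refine (hmin _ (ConjAct.normal_of_characteristic_of_normal) (Subgroup.map_subtype_le _)).resolve_left fun he => ?_
    rw [Subgroup.map_eq_bot_iff_of_injective _ Kb.subtype_injective] at he
    have h2 := S.dvd_card_of_dvd_card hpd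
    rw [he, Subgroup.card_bot] at h2
    exact hp.not_dvd_one h2
  obtain ⟨a, ha⟩ := IsPGroup.iff_card.1 (S.2.map Kb.subtype)
  rw [hSK] at ha
  have hcard : Nat.card (G ⧸ Subgroup.center G) = p ^ a * q := by
    rw [← ha, ← hKc.card_mul, hMq]
  have hpq : p ≠ q := by
    intro he
    have hc := Frobenius.coprime_card_index hFC
    rw [hMq, hMbi] at hc
    exact hp.ne_one (Nat.eq_one_of_dvd_coprimes hc he.dvd hpd)
  refine ⟨fun hc => hMbn (Subgroup.normal_of_isMulCommutative Mb), fun H hH => ?_, p, q, a, hp, hq, hpq, hcard, fun P hP => ?_⟩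
  · by_cases hHK : H ≤ Kb
    · exact ⟨⟨fun u v => Subtype.ext (congrArg Subtype.val (hKbab.is_comm.comm ⟨u, hHK u.2⟩ ⟨v, hHK v.2⟩) :)⟩⟩
    have htop : Kb ⊔ H = ⊤ := hKco.2 _ (left_lt_sup.2 hHK)
    have hIn : (H ⊓ Kb).Normal := by
      rw [← Subgroup.normalizer_eq_top_iff, eq_top_iff, ← htop]
      refine sup_le (fun k hk => ?_) (fun g hg => ?_)
      · have hck : ∀ y ∈ H ⊓ Kb, k * y * k⁻¹ = y := fun y hy => by
          rw [show k * y = y * k from congrArg Subtype.val (hKbab.is_comm.comm ⟨k, hk⟩ ⟨y, (Subgroup.mem_inf.1 hy).2⟩),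
            mul_inv_cancel_right]
        refine Subgroup.mem_normalizer_iff.2 fun y => ⟨fun hy => by rwa [hck y hy], fun hy => ?_⟩
        have := hck _ hy
        have h2 : y = k * y * k⁻¹ := by
          have h3 := congrArg (fun t => k⁻¹ * t * k) this
          simpa [mul_assoc] using h3.symm
        rwa [h2]
      · refine Subgroup.mem_normalizer_iff.2 fun y => ?_
        simp only [Subgroup.mem_inf]
        exact and_congr (by rw [Subgroup.mul_mem_cancel_right _ (inv_mem hg), Subgroup.mul_mem_cancel_left _ hg])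
          ⟨fun h' => hKn.conj_mem y h' g, fun h' => by simpa [mul_assoc] using hKn.conj_mem _ h' g⁻¹⟩
    rcases hmin _ hIn inf_le_right with he | he
    · have hd : Nat.card H ∣ q := by
        have h1 := Subgroup.relIndex_dvd_index_of_normal Kb H
        rwa [← Subgroup.inf_relIndex_right, inf_comm, he, Subgroup.relIndex_bot_left] at h1
      have := Fact.mk hq
      have := isCyclic_of_card_dvd_prime hd
      infer_instance
    · rw [inf_eq_right] at he
      rw [sup_eq_right.2 he] at htop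
      exact absurd htop hH
  · suffices P = Kb from this ▸ hKn
    refine Subgroup.eq_of_le_of_card_ge (fun y hy => ?_) (ha.trans hP.symm).le
    rw [← QuotientGroup.eq_one_iff, ← orderOf_eq_one_iff]
    refine Nat.eq_one_of_dvd_coprimes (((Nat.coprime_primes hp hq).2 hpq).pow_left a) ?_
      (orderOf_dvd_natCard _)
    exact (orderOf_map_dvd (QuotientGroup.mk' Kb) y).trans (hP ▸ Subgroup.orderOf_dvd_natCard P hy)

end Cfsg.Agent.Lib.MaxCentralizers67
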